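import Cfsg.Agent.Lib.H35.TCSuzD.Data
import Cfsg.Agent.Lib.H35.TC
set_option autoImplicit false
set_option maxRecDepth 100000
set_option linter.all false
namespace H35.TCSuzD
open H35.TC
/-- letters -/
inductive Lt | a | b | c | d
  deriving DecidableEq
/-- inverse letter -/
def inv : Lt → Lt
  | .a => .a
  | .b => .b
  | .c => .c
  | .d => .d
/-- table functions -/
noncomputable def T : Lt → ℕ → ℕ
  | .a => T_a
  | .b => T_b
  | .c => T_c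
  | .d => T_d
/-- decoding of letter codes -/
def lt : ℕ → Lt
  | 0 => .a
  | 1 => .b
  | 2 => .c
  | _ => .d
/-- Coxeter matrix (0: no relation) -/
def mm : Lt → Lt → ℕ
  | .a, .a => 1
  | .a, .b => 5
  | .a, .c => 2
  | .a, .d => 2
  | .b, .a => 5
  | .b, .b => 1
  | .b, .c => 3
  | .b, .d => 2
  | .c, .a => 2
  | .c, .b => 3
  | .c, .c => 1
  | .c, .d => 8
  | .d, .a => 2
  | .d, .b => 2
  | .d, .c => 8
  | .d, .d => 1
/-- extra relators `w ^ n` -/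
def extra : List (List Lt × ℕ) := [
  ([.a, .d, .c, .d, .c, .d, .c, .d, .c], 1)]
/-- relators -/
def rels : List (List Lt) := mkRels [(.a, .c), (.a, .d), (.b, .d), (.b, .c), (.a, .b), (.c, .d), (.a, .a), (.b, .b), (.c, .c), (.d, .d)] mm extra
/-- subgroup words -/
def subs : List (List Lt) := [
  [.a],
  [.b]]
noncomputable def dp_a_0 (j u : ℕ) : Bool :=
  Bool.rec (motive := fun _ => Bool) (lF [T_d, T_c, T_d, T_c, T_d, T_c, T_d, T_c] M (Nat.sub (T_a u) (Nat.mod (T_a u) M)) (Nat.mod (T_a u) M) u) (lH [] [] M (Nat.sub (T_a u) (Nat.mod (T_a u) M)) (Nat.mod (T_a u) M) u) (Nat.ble (nat_lit 8) j)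
noncomputable def dp_a_1 (j u : ℕ) : Bool :=
  Bool.rec (motive := fun _ => Bool) (lF [T_c, T_d, T_c, T_d, T_c, T_d, T_c, T_d] M (Nat.sub (T_a u) (Nat.mod (T_a u) M)) (Nat.mod (T_a u) M) u) (dp_a_0 j u) (Nat.ble (nat_lit 7) j)
noncomputable def dp_a_2 (j u : ℕ) : Bool :=
  Bool.rec (motive := fun _ => Bool) (lF [T_b, T_a, T_b, T_a, T_b, T_a, T_b, T_a, T_b] M (Nat.sub (T_a u) (Nat.mod (T_a u) M)) (Nat.mod (T_a u) M) u) (dp_a_1 j u) (Nat.ble (nat_lit 6) j)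
noncomputable def disp_a (j u : ℕ) : Bool :=
  Bool.rec (motive := fun _ => Bool) (Bool.rec (motive := fun _ => Bool) (lF1 T_a M (Nat.sub (T_a u) (Nat.mod (T_a u) M)) (Nat.mod (T_a u) M) u) (lDef P (nat_lit 0) (Nat.mod (T_a u) M) u) (Nat.ble (nat_lit 1) j)) (Bool.rec (motive := fun _ => Bool) (lDef P (nat_lit 0) u (Nat.mod (T_a u) M)) (Bool.rec (motive := fun _ => Bool) (lF3 T_d T_a T_d M (Nat.sub (T_a u) (Nat.mod (T_a u) M)) (Nat.mod (T_a u) M) u) (Bool.rec (motive := fun _ => Bool) (lF3 T_c T_a T_c M (Nat.sub (T_a u) (Nat.mod (T_a u) M)) (Nat.mod (T_a u) M) u) (dp_a_2 j u) (Nat.ble (nat_lit 5) j)) (Nat.ble (nat_lit 4) j)) (Nat.ble (nat_lit 3) j)) (Nat.ble (nat_lit 2) j)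
noncomputable def chk_a (j u : ℕ) : Bool :=
  Bool.rec (motive := fun _ => Bool) (disp_a j u) (Nat.ble (Nat.succ (MG u)) A) (Nat.ble A (T_a u))
noncomputable def dp_b_0 (j u : ℕ) : Bool :=
  Bool.rec (motive := fun _ => Bool) (lF [T_a, T_b, T_a, T_b, T_a, T_b, T_a, T_b, T_a] M (Nat.sub (T_b u) (Nat.mod (T_b u) M)) (Nat.mod (T_b u) M) u) (lH [] [] M (Nat.sub (T_b u) (Nat.mod (T_b u) M)) (Nat.mod (T_b u) M) u) (Nat.ble (nat_lit 6) j)
noncomputable def dp_b_1 (j u : ℕ) : Bool :=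
  Bool.rec (motive := fun _ => Bool) (lF [T_c, T_b, T_c, T_b, T_c] M (Nat.sub (T_b u) (Nat.mod (T_b u) M)) (Nat.mod (T_b u) M) u) (dp_b_0 j u) (Nat.ble (nat_lit 5) j)
noncomputable def disp_b (j u : ℕ) : Bool :=
  Bool.rec (motive := fun _ => Bool) (Bool.rec (motive := fun _ => Bool) (lDef P (nat_lit 1) (Nat.mod (T_b u) M) u) (lDef P (nat_lit 1) u (Nat.mod (T_b u) M)) (Nat.ble (nat_lit 1) j)) (Bool.rec (motive := fun _ => Bool) (lF3 T_d T_b T_d M (Nat.sub (T_b u) (Nat.mod (T_b u) M)) (Nat.mod (T_b u) M) u) (Bool.rec (motive := fun _ => Bool) (lF1 T_b M (Nat.sub (T_b u) (Nat.mod (T_b u) M)) (Nat.mod (T_b u) M) u) (dp_b_1 j u) (Nat.ble (nat_lit 4) j)) (Nat.ble (nat_lit 3) j)) (Nat.ble (nat_lit 2) j)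
noncomputable def chk_b (j u : ℕ) : Bool :=
  Bool.rec (motive := fun _ => Bool) (disp_b j u) (Nat.ble (Nat.succ (MG u)) A) (Nat.ble A (T_b u))
noncomputable def dp_c_0 (j u : ℕ) : Bool :=
  Bool.rec (motive := fun _ => Bool) (lF [T_a, T_d, T_c, T_d, T_c, T_d, T_c, T_d] M (Nat.sub (T_c u) (Nat.mod (T_c u) M)) (Nat.mod (T_c u) M) u) (lF [T_d, T_c, T_d, T_c, T_d, T_c, T_a, T_d] M (Nat.sub (T_c u) (Nat.mod (T_c u) M)) (Nat.mod (T_c u) M) u) (Nat.ble (nat_lit 9) j)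
noncomputable def dp_c_1 (j u : ℕ) : Bool :=
  Bool.rec (motive := fun _ => Bool) (lF [T_d, T_c, T_d, T_c, T_d, T_a, T_c, T_d] M (Nat.sub (T_c u) (Nat.mod (T_c u) M)) (Nat.mod (T_c u) M) u) (dp_c_0 j u) (Nat.ble (nat_lit 8) j)
noncomputable def dp_c_2 (j u : ℕ) : Bool :=
  Bool.rec (motive := fun _ => Bool) (lF [T_d, T_c, T_a, T_d, T_c, T_d, T_c, T_d] M (Nat.sub (T_c u) (Nat.mod (T_c u) M)) (Nat.mod (T_c u) M) u) (dp_c_1 j u) (Nat.ble (nat_lit 7) j)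
noncomputable def dp_c_3 (j u : ℕ) : Bool :=
  Bool.rec (motive := fun _ => Bool) (lF [T_d, T_c, T_d, T_c, T_a, T_d, T_c, T_d] M (Nat.sub (T_c u) (Nat.mod (T_c u) M)) (Nat.mod (T_c u) M) u) (dp_c_2 j u) (Nat.ble (nat_lit 6) j)
noncomputable def dp_c_4 (j u : ℕ) : Bool :=
  Bool.rec (motive := fun _ => Bool) (lF3 T_a T_c T_a M (Nat.sub (T_c u) (Nat.mod (T_c u) M)) (Nat.mod (T_c u) M) u) (dp_c_3 j u) (Nat.ble (nat_lit 5) j)
noncomputable def disp_c (j u : ℕ) : Bool :=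
  Bool.rec (motive := fun _ => Bool) (lDef P (nat_lit 2) (Nat.mod (T_c u) M) u) (Bool.rec (motive := fun _ => Bool) (lDef P (nat_lit 2) u (Nat.mod (T_c u) M)) (Bool.rec (motive := fun _ => Bool) (lF1 T_c M (Nat.sub (T_c u) (Nat.mod (T_c u) M)) (Nat.mod (T_c u) M) u) (Bool.rec (motive := fun _ => Bool) (lF [T_b, T_c, T_b, T_c, T_b] M (Nat.sub (T_c u) (Nat.mod (T_c u) M)) (Nat.mod (T_c u) M) u) (dp_c_4 j u) (Nat.ble (nat_lit 4) j)) (Nat.ble (nat_lit 3) j)) (Nat.ble (nat_lit 2) j)) (Nat.ble (nat_lit 1) j)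
noncomputable def chk_c (j u : ℕ) : Bool :=
  Bool.rec (motive := fun _ => Bool) (disp_c j u) (Nat.ble (Nat.succ (MG u)) A) (Nat.ble A (T_c u))
noncomputable def dp_d_0 (j u : ℕ) : Bool :=
  Bool.rec (motive := fun _ => Bool) (lF1 T_d M (Nat.sub (T_d u) (Nat.mod (T_d u) M)) (Nat.mod (T_d u) M) u) (lF3 T_b T_d T_b M (Nat.sub (T_d u) (Nat.mod (T_d u) M)) (Nat.mod (T_d u) M) u) (Nat.ble (nat_lit 3) j)
noncomputable def dp_d_1 (j u : ℕ) : Bool :=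
  Bool.rec (motive := fun _ => Bool) (lF [T_c, T_d, T_c, T_a, T_d, T_c, T_d, T_c] M (Nat.sub (T_d u) (Nat.mod (T_d u) M)) (Nat.mod (T_d u) M) u) (lF [T_c, T_a, T_d, T_c, T_d, T_c, T_d, T_c] M (Nat.sub (T_d u) (Nat.mod (T_d u) M)) (Nat.mod (T_d u) M) u) (Nat.ble (nat_lit 8) j)
noncomputable def dp_d_2 (j u : ℕ) : Bool :=
  Bool.rec (motive := fun _ => Bool) (lF [T_c, T_d, T_c, T_d, T_c, T_d, T_c, T_a] M (Nat.sub (T_d u) (Nat.mod (T_d u) M)) (Nat.mod (T_d u) M) u) (dp_d_1 j u) (Nat.ble (nat_lit 7) j)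
noncomputable def dp_d_3 (j u : ℕ) : Bool :=
  Bool.rec (motive := fun _ => Bool) (lF [T_c, T_d, T_c, T_d, T_a, T_c, T_d, T_c] M (Nat.sub (T_d u) (Nat.mod (T_d u) M)) (Nat.mod (T_d u) M) u) (dp_d_2 j u) (Nat.ble (nat_lit 6) j)
noncomputable def dp_d_4 (j u : ℕ) : Bool :=
  Bool.rec (motive := fun _ => Bool) (lF3 T_a T_d T_a M (Nat.sub (T_d u) (Nat.mod (T_d u) M)) (Nat.mod (T_d u) M) u) (dp_d_3 j u) (Nat.ble (nat_lit 5) j)
noncomputable def disp_d (j u : ℕ) : Bool :=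
  Bool.rec (motive := fun _ => Bool) (lDef P (nat_lit 3) (Nat.mod (T_d u) M) u) (Bool.rec (motive := fun _ => Bool) (lDef P (nat_lit 3) u (Nat.mod (T_d u) M)) (Bool.rec (motive := fun _ => Bool) (dp_d_0 j u) (dp_d_4 j u) (Nat.ble (nat_lit 4) j)) (Nat.ble (nat_lit 2) j)) (Nat.ble (nat_lit 1) j)
noncomputable def chk_d (j u : ℕ) : Bool :=
  Bool.rec (motive := fun _ => Bool) (disp_d j u) (Nat.ble (Nat.succ (MG u)) A) (Nat.ble A (T_d u))
noncomputable def dM_0 (j z1 z2 u : ℕ) : Bool :=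
  Bool.rec (motive := fun _ => Bool) (Bool.rec (motive := fun _ => Bool) (mCo MG T_d M (Nat.sub (MG u) (Nat.mod (MG u) M)) (nat_lit 40) z1 z2 u (Nat.mod (MG u) M)) (mCo MG T_c M (Nat.sub (MG u) (Nat.mod (MG u) M)) (nat_lit 40) z1 z2 u (Nat.mod (MG u) M)) (Nat.ble (nat_lit 1) j)) (Bool.rec (motive := fun _ => Bool) (mCo MG T_b M (Nat.sub (MG u) (Nat.mod (MG u) M)) (nat_lit 40) z1 z2 u (Nat.mod (MG u) M)) (Bool.rec (motive := fun _ => Bool) (mCo MG T_a M (Nat.sub (MG u) (Nat.mod (MG u) M)) (nat_lit 40) z1 z2 u (Nat.mod (MG u) M)) (mRel MG [T_b, T_a, T_b, T_a, T_b, T_a, T_b, T_a, T_b, T_a] [] M (Nat.sub (MG u) (Nat.mod (MG u) M)) (nat_lit 40) z1 u (Nat.mod (MG u) M)) (Nat.ble (nat_lit 4) j)) (Nat.ble (nat_lit 3) j)) (Nat.ble (nat_lit 2) j)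
noncomputable def chkM (u : ℕ) : Bool :=
  Bool.rec (motive := fun _ => Bool) (band (Nat.ble (Nat.succ (Nat.mod (MG u) M)) u) (dM_0 (Nat.land (MR u) (nat_lit 15)) (Nat.land (Nat.shiftRight (MR u) (nat_lit 4)) (nat_lit 2047)) (Nat.shiftRight (MR u) (nat_lit 15)) u)) true (Nat.ble A (MG u))
noncomputable def chkN (u : ℕ) : Bool :=
  band (chk_a (Nat.land (Nat.shiftRight (RS u) (nat_lit 0)) (nat_lit 15)) u) (band (chk_b (Nat.land (Nat.shiftRight (RS u) (nat_lit 4)) (nat_lit 15)) u) (band (chk_c (Nat.land (Nat.shiftRight (RS u) (nat_lit 8)) (nat_lit 15)) u) (band (chk_d (Nat.land (Nat.shiftRight (RS u) (nat_lit 12)) (nat_lit 15)) u) (chkM u))))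
noncomputable def chkP (u : ℕ) : Bool := Bool.rec (motive := fun _ => Bool) (chkN u) true (Nat.ble M u)
noncomputable def liveP (u : ℕ) : Bool := Bool.rec (motive := fun _ => Bool) (Nat.ble A (MG u)) false (Nat.ble M u)
end H35.TCSuzD
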